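import Mathlib
import Groth.Prelude

/-!
# The fibre product over the base of two categories over it
-/

set_option autoImplicit false
set_option backward.isDefEq.respectTransparency false
set_option backward.isDefEq.respectTransparency.types false
set_option linter.style.haveILetI false

universe v u v₂ u₂

open CategoryTheory CategoryTheory.Limits Functor IsHomLift

namespace Groth.Agent.FibFpLib

variable {C : Type u} [Category.{v} C] {𝒳 𝒴 : BasedCategory.{v₂, u₂} C}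

/-- The fibre product. -/
abbrev Z (𝒳 𝒴 : BasedCategory.{v₂, u₂} C) := FibCat.fp (FibCat.toSelf 𝒳) (FibCat.toSelf 𝒴)

theorem obj_eq (x : (Z 𝒳 𝒴).obj) : 𝒴.p.obj x.obj.snd = 𝒳.p.obj x.obj.fst :=
  @IsHomLift.codomain_eq _ _ _ _ (FibCat.selfOver C).p _ _ _ _ (𝟙 (𝒳.p.obj x.obj.fst)) x.obj.iso.hom
    x.property

theorem iso_hom_eq (x : (Z 𝒳 𝒴).obj) : x.obj.iso.hom = eqToHom (obj_eq x).symm := by
  haveI : (FibCat.selfOver C).p.IsHomLift (𝟙 (𝒳.p.obj x.obj.fst)) x.obj.iso.hom := x.property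
  have h := IsHomLift.fac' (FibCat.selfOver C).p (𝟙 (𝒳.p.obj x.obj.fst)) x.obj.iso.hom
  rw [Category.id_comp, eqToHom_trans] at h
  exact h

/-- An object from two objects over one object of the base. -/
def mkObj (a : 𝒳.obj) (b : 𝒴.obj) (h : 𝒴.p.obj b = 𝒳.p.obj a) : (Z 𝒳 𝒴).obj :=
  ⟨{ fst := a, snd := b, iso := eqToIso h.symm }, by
    show (FibCat.selfOver C).p.IsHomLift (𝟙 (𝒳.p.obj a)) (eqToHom h.symm)
    exact IsHomLift.eqToHom_domain_lift_id h.symm rfl⟩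

/-- A morphism from two morphisms over one morphism of the base. -/
def mkHom {x y : (Z 𝒳 𝒴).obj} {R S : C} (f : R ⟶ S) (u : x.obj.fst ⟶ y.obj.fst)
    (v : x.obj.snd ⟶ y.obj.snd) [𝒳.p.IsHomLift f u] [𝒴.p.IsHomLift f v] : x ⟶ y :=
  ObjectProperty.homMk
    { fst := u
      snd := v
      w := by
        show 𝒳.p.map u ≫ y.obj.iso.hom = x.obj.iso.hom ≫ 𝒴.p.map v
        have hv := (IsHomLift.fac 𝒳.p f u).symm.trans (IsHomLift.fac 𝒴.p f v)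
        rw [iso_hom_eq, iso_hom_eq]
        have key : 𝒳.p.map u ≫ eqToHom (obj_eq y).symm = eqToHom (obj_eq x).symm ≫ 𝒴.p.map v := by
          have h2 := congrArg (fun k => eqToHom (IsHomLift.domain_eq 𝒳.p f u) ≫ k ≫
            eqToHom (IsHomLift.codomain_eq 𝒴.p f v).symm) hv
          simpa only [Category.assoc, eqToHom_trans, eqToHom_trans_assoc, eqToHom_refl,
            Category.id_comp, Category.comp_id] using! h2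
        exact key }

theorem hom_ext' {x y : (Z 𝒳 𝒴).obj} {φ ψ : x ⟶ y} (h1 : φ.hom.fst = ψ.hom.fst)
    (h2 : φ.hom.snd = ψ.hom.snd) : φ = ψ :=
  ObjectProperty.hom_ext _ (CategoricalPullback.Hom.ext h1 h2)

theorem lift_fst {R S : C} (f : R ⟶ S) {x y : (Z 𝒳 𝒴).obj} (φ : x ⟶ y)
    [(Z 𝒳 𝒴).p.IsHomLift f φ] : 𝒳.p.IsHomLift f φ.hom.fst := by
  subst_hom_lift (Z 𝒳 𝒴).p f φ
  exact IsHomLift.map φ.hom.fst

theorem lift_snd {R S : C} (f : R ⟶ S) {x y : (Z 𝒳 𝒴).obj} (φ : x ⟶ y)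
    [(Z 𝒳 𝒴).p.IsHomLift f φ] : 𝒴.p.IsHomLift f φ.hom.snd := by
  subst_hom_lift (Z 𝒳 𝒴).p f φ
  exact FibCat.fp_isHomLift_snd _ _ φ

theorem lift_of_fst {R S : C} (f : R ⟶ S) {x y : (Z 𝒳 𝒴).obj} (φ : x ⟶ y)
    [h : 𝒳.p.IsHomLift f φ.hom.fst] : (Z 𝒳 𝒴).p.IsHomLift f φ :=
  IsHomLift.of_fac' _ f φ (IsHomLift.domain_eq 𝒳.p f φ.hom.fst)
    (IsHomLift.codomain_eq 𝒳.p f φ.hom.fst) (IsHomLift.fac' 𝒳.p f φ.hom.fst)

theorem isCartesian_of {R S : C} (f : R ⟶ S) {x y : (Z 𝒳 𝒴).obj} (φ : x ⟶ y)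
    (hu : 𝒳.p.IsCartesian f φ.hom.fst) (hv : 𝒴.p.IsCartesian f φ.hom.snd) :
    (Z 𝒳 𝒴).p.IsCartesian f φ := by
  haveI := hu
  haveI := hv
  haveI := lift_of_fst f φ
  refine { universal_property := fun {z} ψ hψ => ?_ }
  haveI := hψ
  haveI := lift_fst f ψ
  haveI := lift_snd f ψ
  haveI := lift_of_fst (h := (inferInstance : 𝒳.p.IsHomLift (𝟙 R)
      (IsCartesian.map 𝒳.p f φ.hom.fst ψ.hom.fst))) (𝟙 R)
    (mkHom (𝟙 R) (IsCartesian.map 𝒳.p f φ.hom.fst ψ.hom.fst)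
    (IsCartesian.map 𝒴.p f φ.hom.snd ψ.hom.snd))
  refine ⟨mkHom (𝟙 R) (IsCartesian.map 𝒳.p f φ.hom.fst ψ.hom.fst)
    (IsCartesian.map 𝒴.p f φ.hom.snd ψ.hom.snd), ⟨inferInstance,
      hom_ext' (IsCartesian.fac 𝒳.p f φ.hom.fst ψ.hom.fst) (IsCartesian.fac 𝒴.p f φ.hom.snd ψ.hom.snd)⟩,
      fun χ hχ => ?_⟩
  haveI := hχ.1
  haveI := lift_fst (𝟙 R) χ
  haveI := lift_snd (𝟙 R) χ
  exact hom_ext'
    (IsCartesian.map_uniq 𝒳.p f φ.hom.fst ψ.hom.fst χ.hom.fst (congrArg (fun k => k.hom.fst) hχ.2))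
    (IsCartesian.map_uniq 𝒴.p f φ.hom.snd ψ.hom.snd χ.hom.snd (congrArg (fun k => k.hom.snd) hχ.2))

theorem isCartesian_fst {R S : C} (f : R ⟶ S) {x y : (Z 𝒳 𝒴).obj} (φ : x ⟶ y)
    [(Z 𝒳 𝒴).p.IsCartesian f φ] : 𝒳.p.IsCartesian f φ.hom.fst := by
  haveI := lift_fst f φ
  haveI := lift_snd f φ
  have hx : 𝒳.p.obj x.obj.fst = R := IsHomLift.domain_eq 𝒳.p f φ.hom.fst
  refine { universal_property := fun {a} u hu => ?_ }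
  haveI := hu
  have ha : 𝒴.p.obj x.obj.snd = 𝒳.p.obj a :=
    (IsHomLift.domain_eq 𝒴.p f φ.hom.snd).trans (IsHomLift.domain_eq 𝒳.p f u).symm
  let ψ : mkObj a x.obj.snd ha ⟶ y := mkHom f u φ.hom.snd
  haveI : 𝒳.p.IsHomLift f ψ.hom.fst := hu
  haveI := lift_of_fst f ψ
  let χ := IsCartesian.map (Z 𝒳 𝒴).p f φ ψ
  haveI : 𝒳.p.IsHomLift (𝟙 R) χ.hom.fst := lift_fst (𝟙 R) χ
  refine ⟨χ.hom.fst, ⟨inferInstance,
    congrArg (fun k => k.hom.fst) (IsCartesian.fac (Z 𝒳 𝒴).p f φ ψ)⟩, fun w hw => ?_⟩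
  haveI := hw.1
  haveI : 𝒴.p.IsHomLift (𝟙 R) (𝟙 x.obj.snd) := IsHomLift.id (IsHomLift.domain_eq 𝒴.p f φ.hom.snd)
  let χ' : mkObj a x.obj.snd ha ⟶ x := mkHom (𝟙 R) w (𝟙 x.obj.snd)
  haveI : 𝒳.p.IsHomLift (𝟙 R) χ'.hom.fst := hw.1
  haveI := lift_of_fst (𝟙 R) χ'
  have := IsCartesian.map_uniq (Z 𝒳 𝒴).p f φ ψ χ' (hom_ext' hw.2 (Category.id_comp _))
  exact congrArg (fun k => k.hom.fst) this

theorem isCartesian_snd {R S : C} (f : R ⟶ S) {x y : (Z 𝒳 𝒴).obj} (φ : x ⟶ y)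
    [(Z 𝒳 𝒴).p.IsCartesian f φ] : 𝒴.p.IsCartesian f φ.hom.snd := by
  haveI := lift_fst f φ
  haveI := lift_snd f φ
  refine { universal_property := fun {b} v hv => ?_ }
  haveI := hv
  have hb : 𝒴.p.obj b = 𝒳.p.obj x.obj.fst :=
    (IsHomLift.domain_eq 𝒴.p f v).trans (IsHomLift.domain_eq 𝒳.p f φ.hom.fst).symm
  let ψ : mkObj x.obj.fst b hb ⟶ y := mkHom f φ.hom.fst v
  haveI : 𝒳.p.IsHomLift f ψ.hom.fst := inferInstanceAs (𝒳.p.IsHomLift f φ.hom.fst)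
  haveI := lift_of_fst f ψ
  let χ := IsCartesian.map (Z 𝒳 𝒴).p f φ ψ
  haveI : 𝒴.p.IsHomLift (𝟙 R) χ.hom.snd := lift_snd (𝟙 R) χ
  refine ⟨χ.hom.snd, ⟨inferInstance,
    congrArg (fun k => k.hom.snd) (IsCartesian.fac (Z 𝒳 𝒴).p f φ ψ)⟩, fun w hw => ?_⟩
  haveI := hw.1
  haveI : 𝒳.p.IsHomLift (𝟙 R) (𝟙 x.obj.fst) := IsHomLift.id (IsHomLift.domain_eq 𝒳.p f φ.hom.fst)
  let χ' : mkObj x.obj.fst b hb ⟶ x := mkHom (𝟙 R) (𝟙 x.obj.fst) w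
  haveI : 𝒳.p.IsHomLift (𝟙 R) χ'.hom.fst := inferInstanceAs (𝒳.p.IsHomLift (𝟙 R) (𝟙 x.obj.fst))
  haveI := lift_of_fst (𝟙 R) χ'
  have := IsCartesian.map_uniq (Z 𝒳 𝒴).p f φ ψ χ' (hom_ext' (Category.id_comp _) hw.2)
  exact congrArg (fun k => k.hom.snd) this

theorem isCartesian_map_iff {R S : C} (p : 𝒳.obj ⥤ C) (f : R ⟶ S) {a b : 𝒳.obj} (φ : a ⟶ b)
    [p.IsHomLift f φ] : p.IsCartesian f φ ↔ p.IsCartesian (p.map φ) φ := by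
  subst_hom_lift p f φ
  exact Iff.rfl

theorem isCartesian_iff {x y : (Z 𝒳 𝒴).obj} (φ : x ⟶ y) :
    (Z 𝒳 𝒴).p.IsCartesian ((Z 𝒳 𝒴).p.map φ) φ ↔
      𝒳.p.IsCartesian (𝒳.p.map φ.hom.fst) φ.hom.fst ∧
        𝒴.p.IsCartesian (𝒴.p.map φ.hom.snd) φ.hom.snd := by
  haveI := lift_fst ((Z 𝒳 𝒴).p.map φ) φ
  haveI := lift_snd ((Z 𝒳 𝒴).p.map φ) φ
  rw [← isCartesian_map_iff (𝒳 := 𝒴) 𝒴.p ((Z 𝒳 𝒴).p.map φ) φ.hom.snd]
  constructor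
  · intro h
    exact ⟨@isCartesian_fst _ _ 𝒳 𝒴 _ _ ((Z 𝒳 𝒴).p.map φ) _ _ φ h,
      @isCartesian_snd _ _ 𝒳 𝒴 _ _ ((Z 𝒳 𝒴).p.map φ) _ _ φ h⟩
  · exact fun h => isCartesian_of _ φ h.1 h.2

theorem isPreFibered (h𝒳 : 𝒳.p.IsPreFibered) (h𝒴 : 𝒴.p.IsPreFibered) : (Z 𝒳 𝒴).p.IsPreFibered := by
  constructor
  intro y R f
  obtain ⟨a, u, hu⟩ := IsPreFibered.exists_isCartesian 𝒳.p (a := y.obj.fst) rfl f
  obtain ⟨b, v, hv⟩ := IsPreFibered.exists_isCartesian 𝒴.p (a := y.obj.snd) (obj_eq y) f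
  have h : 𝒴.p.obj b = 𝒳.p.obj a :=
    (IsHomLift.domain_eq 𝒴.p f v).trans (IsHomLift.domain_eq 𝒳.p f u).symm
  exact ⟨mkObj a b h, mkHom f u v, isCartesian_of f _ hu hv⟩

theorem isFibered (h𝒳 : 𝒳.p.IsFibered) (h𝒴 : 𝒴.p.IsFibered) : (Z 𝒳 𝒴).p.IsFibered := by
  haveI := isPreFibered h𝒳.toIsPreFibered h𝒴.toIsPreFibered
  refine { comp := fun {R S T} f g {a b c} φ ψ h1 h2 => ?_ }
  haveI := h1
  haveI := h2
  haveI := isCartesian_fst f φ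
  haveI := isCartesian_fst g ψ
  haveI := isCartesian_snd f φ
  haveI := isCartesian_snd g ψ
  exact isCartesian_of (f ≫ g) (φ ≫ ψ)
    (inferInstanceAs (𝒳.p.IsCartesian (f ≫ g) (φ.hom.fst ≫ ψ.hom.fst)))
    (inferInstanceAs (𝒴.p.IsCartesian (f ≫ g) (φ.hom.snd ≫ ψ.hom.snd)))

end Groth.Agent.FibFpLib
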